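import Groth.Agent.H3CAlg.Sect0.Colim
import Groth.Agent.H3CAlg.Boot.Finish
import Groth.Agent.H3CAlg.PunctCompare

/-!
# Formal sections when the bootstrap applies at level one
-/

set_option autoImplicit false
set_option linter.style.haveILetI false
set_option linter.unusedSectionVars false

universe u

open CategoryTheory CategoryTheory.Limits Opposite
open Groth.Agent.H4DR
open Groth.Agent.H3CAlg.PunctCech (Hc hc hv Hv U₀ η₀ τ ψ hv_η₀ ψ_natural τ_natural)

attribute [local instance] HasDerivedCategory.standard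

namespace Groth.Agent.H3CAlg.Sect0

variable {A : Type u} [CommRing A] [IsNoetherianRing A]

theorem powEquiv_natural (J : Ideal A) {W W' : Dual.D A} (g : W ⟶ W') (z : LD.H J W) :
    HT.powEquiv J W' (LD.hmap J g z) = HT.hmap _ g (HT.powEquiv J W z) := by
  obtain ⟨n, x, rfl⟩ := LD.exists_rep J z
  rw [LD.hmap_ι]
  have key : ∀ (W : Dual.D A) (x : LD.Q J n ⟶ W), HT.powEquiv J W (LD.ι J W n x) =
      HT.ι (PrimeSpectrum.zeroLocus (J : Set A)) W (J ^ n) (HT.zeroLocus_pow J n) x := fun W x =>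
    congr($(colimit.ι_desc (HT.powCocone J W) (Opposite.op (Opposite.op n))).hom x)
  rw [key, key, HT.hmap_ι]

theorem exists_lc_ht (J : Ideal A) (i : ℕ) :
    ∃ e : ∀ X : ModuleCat.{u} A, LocCoh.H J i X ≃ₗ[A] Dual2.HT (PrimeSpectrum.zeroLocus (J : Set A)) i X,
      ∀ {X Y : ModuleCat.{u} A} (φ : X →ₗ[A] Y) z,
        e Y (H4LC.Hmap J φ i z) = Boot.Tmap _ φ i (e X z) := by
  refine ⟨fun X => (HT.lcEquivT J X i).trans (HT.htEquiv _ X i), fun {X Y} φ z => ?_⟩
  obtain ⟨w, rfl⟩ := (LD.bijective_lcInv J X i).2 z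
  have h1 : ∀ (Z : ModuleCat.{u} A) (w : LD.H J ((Dual.inD A Z)⟦(i : ℤ)⟧)),
      (HT.lcEquivT J Z i).trans (HT.htEquiv _ Z i) (LD.lcInv J Z i w) =
        HT.cmp _ Z i (HT.powEquiv J _ w) := fun Z w => by
    show HT.cmp _ Z i (HT.powEquiv J _ ((LinearEquiv.ofBijective _ (LD.bijective_lcInv J Z i)).symm _)) = _
    rw [show LD.lcInv J Z i w = LinearEquiv.ofBijective _ (LD.bijective_lcInv J Z i) w from rfl,
      LinearEquiv.symm_apply_apply]
  show (HT.lcEquivT J Y i).trans (HT.htEquiv _ Y i) ((H4LC.Hmap J φ i) _) = _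
  rw [show H4LC.Hmap J φ i (LD.lcInv J X i w) = LD.lcInv J Y i (LD.hmap J (H4HTPtwise.shMap φ i) w) from
    (H4HTPtwise.lcInv_natural φ i J w).symm, h1, h1, powEquiv_natural, H4HTPtwise.cmp_natural]

theorem exists_ht_cech (fs : List A) (i : ℕ) :
    ∃ e : ∀ X : ModuleCat.{u} A,
      Dual2.HT (PrimeSpectrum.zeroLocus ((Ideal.ofList fs : Ideal A) : Set A)) i X ≃+ Hc fs (i : ℤ) X,
      ∀ {X Y : ModuleCat.{u} A} (φ : X →ₗ[A] Y) z, e Y (Boot.Tmap _ φ i z) = hc fs φ (i : ℤ) (e X z) := by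
  obtain ⟨e₁, h₁⟩ := exists_lc_ht (Ideal.ofList fs) i
  obtain ⟨e₂, h₂⟩ := Boot.agree_lc_cech (A := A) fs i
  refine ⟨fun X => (e₁ X).symm.toAddEquiv.trans (e₂ X), fun {X Y} φ z => ?_⟩
  show e₂ Y ((e₁ Y).symm (Boot.Tmap _ φ i z)) = hc fs φ (i : ℤ) (e₂ X ((e₁ X).symm z))
  rw [show (e₁ Y).symm (Boot.Tmap _ φ i z) = H4LC.Hmap (Ideal.ofList fs) φ i ((e₁ X).symm z) from
    (e₁ Y).injective (by rw [LinearEquiv.apply_symm_apply, h₁, LinearEquiv.apply_symm_apply])]
  exact h₂ φ _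

set_option maxHeartbeats 400000 in
/-- Formal sections come from sections on `U`. -/
theorem surj_level_one (I 𝔞 : Ideal A) [IsAdicComplete I A] {d : ℕ} (hdc : ∃ ω : Dual.D A, Dual.IsDualizing A ω)
    (hcd : LocCoh.CdLE A I d) (X : Type u) [AddCommGroup X] [Module A X] [Module.Finite A X]
    (H : Boot.Hyp X I (PrimeSpectrum.zeroLocus (𝔞 : Set A)) 1 d) : Surj A I 𝔞 X := by
  classical
  obtain ⟨sJ, hsJ⟩ := IsNoetherian.noetherian 𝔞
  obtain ⟨fs, rfl⟩ : ∃ fs : List A, Ideal.ofList fs = 𝔞 := ⟨sJ.toList, by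
    rw [← hsJ, Ideal.ofList]; exact congrArg Ideal.span (Set.ext fun x => Finset.mem_toList)⟩
  set T := PrimeSpectrum.zeroLocus ((Ideal.ofList fs : Ideal A) : Set A)
  have hT : StableUnderSpecialization T := H4LC.zeroLocus_stable _
  haveI : IsAdicComplete I X := H24Adic.isAdicComplete_of_finite I
  obtain ⟨e0, he0⟩ := exists_ht_cech fs 0
  obtain ⟨e1, he1⟩ := exists_ht_cech fs 1
  intro y hy
  let y' : ∀ n, Hv (U₀ fs) 0 (Formal2.quotPow A I X n) := y
  let π : ∀ n, X →ₗ[A] Formal2.quotPow A I X n := fun n => Formal2.quotPowπ A I X n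
  obtain ⟨g, hg⟩ := (Boot.bijective_to_limit hdc hcd hT H 1 le_rfl).1.2
    (fun n => (e1 (ModuleCat.of A (Formal2.quotPow A I X n))).symm (ψ fs (Formal2.quotPow A I X n) (y' n))) fun n => by
      refine (e1 (ModuleCat.of A (Formal2.quotPow A I X n))).injective ?_
      refine (he1 (X := ModuleCat.of A (Formal2.quotPow A I X (n + 1))) (Y := ModuleCat.of A (Formal2.quotPow A I X n)) _ _).trans ?_
      rw [AddEquiv.apply_symm_apply, AddEquiv.apply_symm_apply]
      refine (ψ_natural fs (Formal2.quotPowTrans A I X n) (y' (n + 1))).symm.trans ?_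
      exact congrArg (ψ fs (Formal2.quotPow A I X n)) (hy n)
  obtain ⟨x₀, hx₀⟩ := PunctCech.ψ_surjective fs (e1 (ModuleCat.of A X) g)
  have hz : ∀ n, ψ fs (Formal2.quotPow A I X n) (hv (U₀ fs) (π n) 0 x₀) = ψ fs (Formal2.quotPow A I X n) (y' n) := fun n => by
    rw [ψ_natural, hx₀]
    refine (he1 (X := ModuleCat.of A X) (Y := ModuleCat.of A (Formal2.quotPow A I X n)) (π n) g).symm.trans ?_
    exact (congrArg (e1 (ModuleCat.of A (Formal2.quotPow A I X n))) (hg n)).trans (AddEquiv.apply_symm_apply _ _)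
  have hm : ∀ n, ∃ m, η₀ fs (Formal2.quotPow A I X n) m = y' n - hv (U₀ fs) (π n) 0 x₀ := fun n =>
    (PunctCech.ψ_eq_zero_iff fs _).1 (by rw [map_sub, hz n, sub_self])
  choose m hm using hm
  have hcomp : ∀ (a b : ℕ) (h : a ≤ b), η₀ fs (Formal2.quotPow A I X a) (qle A I X h (m b)) = η₀ fs (Formal2.quotPow A I X a) (m a) := fun a b h => by
    rw [← hv_η₀, hm, hm, map_sub]
    refine congrArg₂ (· - ·) (compat A I (U₀ fs) y hy h) ?_
    rw [PunctCech.hv_comp, qle_π]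
  have hl : ∀ n : ℕ, ∃ l : ℕ, ∀ (k : ℕ) (h : n ≤ k), l ≤ k → ∀ t : Hc fs 0 (Formal2.quotPow A I X k),
      ∃ g : Hc fs 0 X, hc fs (π n) 0 g = hc fs (qle A I X h) 0 t := fun n => by
    obtain ⟨l, hl⟩ := Boot.exists_lift hdc hcd hT H 0 (Nat.zero_le 1) (n + 1)
    refine ⟨l, fun k h hk t => ?_⟩
    obtain ⟨z, hz⟩ := hl (k + 1) (Nat.add_le_add_right h 1) (hk.trans k.le_succ) ((e0 (ModuleCat.of A (Formal2.quotPow A I X k))).symm t)
    refine ⟨e0 (ModuleCat.of A X) z, ?_⟩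
    refine (he0 (X := ModuleCat.of A X) (Y := ModuleCat.of A (Formal2.quotPow A I X n)) (π n) z).symm.trans ?_
    refine (congrArg (e0 (ModuleCat.of A (Formal2.quotPow A I X n))) hz).trans ?_
    refine (he0 (X := ModuleCat.of A (Formal2.quotPow A I X k)) (Y := ModuleCat.of A (Formal2.quotPow A I X n)) (qle A I X h) _).trans ?_
    exact congrArg (hc fs (qle A I X h) 0) ((e0 (ModuleCat.of A (Formal2.quotPow A I X k))).apply_symm_apply t)
  choose l hl using hl
  let c : ℕ → ℕ := fun n => max n ((Finset.range (n + 1)).sup l)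
  have hc1 : ∀ n, n ≤ c n := fun n => le_max_left _ _
  have hc2 : ∀ n, l n ≤ c n := fun n =>
    (Finset.le_sup (f := l) (Finset.mem_range.2 n.lt_succ_self)).trans (le_max_right _ _)
  have hc3 : ∀ n, c n ≤ c (n + 1) := fun n =>
    max_le_max n.le_succ (Finset.sup_mono (by intro a ha; simp only [Finset.mem_range] at ha ⊢; omega))
  let m' : ∀ n, Formal2.quotPow A I X n := fun n => qle A I X (hc1 n) (m (c n))
  have hg' : ∀ n, ∃ g : X, η₀ fs X g = 0 ∧ π n g = Formal2.quotPowTrans A I X n (m' (n + 1)) - m' n := fun n => by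
    obtain ⟨t, ht⟩ := (PunctCech.η₀_eq_zero fs (qle A I X (hc3 n) (m (c (n + 1))) - m (c n))).1 (by
      rw [map_sub, hcomp, sub_self])
    obtain ⟨g, hg⟩ := hl n (c n) (hc1 n) (hc2 n) t
    refine ⟨τ fs X g, (PunctCech.η₀_eq_zero fs _).2 ⟨g, rfl⟩, ?_⟩
    rw [← τ_natural, hg, τ_natural, ht, map_sub]
    refine congrArg (· - m' n) ?_
    rw [qle_trans', ← LinearMap.comp_apply, qle_qle, ← LinearMap.comp_apply, qle_qle]
  choose g' hg0 hg1 using hg'
  let m'' : ∀ n, Formal2.quotPow A I X n := fun n => m' n - π n (∑ j ∈ Finset.range n, g' j)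
  have hm'' : ∀ n, Formal2.quotPowTrans A I X n (m'' (n + 1)) = m'' n := fun n => by
    show Formal2.quotPowTrans A I X n (m' (n + 1) - π (n + 1) (∑ j ∈ Finset.range (n + 1), g' j)) = _
    rw [map_sub, show Formal2.quotPowTrans A I X n (π (n + 1) (∑ j ∈ Finset.range (n + 1), g' j)) =
      π n (∑ j ∈ Finset.range (n + 1), g' j) from rfl, Finset.sum_range_succ, map_add, hg1]
    show _ = m' n - π n _
    abel
  have hη : ∀ n, η₀ fs (Formal2.quotPow A I X n) (m'' n) = y' n - hv (U₀ fs) (π n) 0 x₀ := fun n => by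
    rw [map_sub, hcomp, hm, ← hv_η₀, map_sum (η₀ fs X), Finset.sum_eq_zero (fun j _ => hg0 j), map_zero, sub_zero]
  choose r hr using fun n => Submodule.mkQ_surjective (I ^ (n + 1) • (⊤ : Submodule A X)) (m'' n)
  have hge : ∀ {a b : ℕ}, a ≤ b → r b - r a ∈ (I ^ (a + 1) • ⊤ : Submodule A X) := fun {a b} hab => by
    induction b, hab using Nat.le_induction with
    | base => rw [sub_self]; exact zero_mem _
    | succ b hb ih =>
      rw [← sub_add_sub_cancel (r (b + 1)) (r b) (r a)]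
      refine add_mem (Submodule.smul_mono_left (Ideal.pow_le_pow_right (show a + 1 ≤ b + 1 by omega)) ?_) ih
      refine (Submodule.Quotient.mk_eq_zero (I ^ (b + 1) • (⊤ : Submodule A X))).1 ?_
      show π b (r (b + 1) - r b) = 0
      rw [map_sub, sub_eq_zero]
      refine (congrArg (Formal2.quotPowTrans A I X b) (hr (b + 1)) : _).trans ?_
      rw [hm'' b]
      exact (hr b).symm
  obtain ⟨L, hL⟩ := IsPrecomplete.prec (I := I) inferInstance (f := r) fun {a b} hab =>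
    (SModEq.sub_mem.2 (Submodule.smul_mono_left (Ideal.pow_le_pow_right a.le_succ) (hge hab))).symm
  refine ⟨U₀ fs, ⟨le_rfl, fun p hp _ => hp⟩, x₀ + η₀ fs X L, fun n => ?_⟩
  have hres : ∀ (z : Formal2.HV A (Formal2.quotPow A I X n) 0 (U₀ fs)) (h : U₀ fs ≤ U₀ fs), Formal2.HVres A (Formal2.quotPow A I X n) 0 h z = z := fun z h => by
    refine (σ A (Formal2.quotPow A I X n) _).injective ?_
    rw [σ_res]
    show ((AlgebraicGeometry.modulesSpecToSheaf.obj (AlgebraicGeometry.tilde (R := CommRingCat.of A)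
      (ModuleCat.of A (Formal2.quotPow A I X n)))).presheaf.map (𝟙 _)).hom _ = _
    rw [CategoryTheory.Functor.map_id]
    rfl
  have hLn : π n L = m'' n := by
    rw [← hr n]
    refine (Submodule.Quotient.eq _).2 ?_
    rw [← sub_add_sub_cancel L (r (n + 1)) (r n)]
    exact add_mem (SModEq.sub_mem.1 (hL (n + 1)).symm) (hge n.le_succ)
  rw [hres]
  show y' n = hv (U₀ fs) (π n) 0 (x₀ + η₀ fs X L)
  rw [map_add, hv_η₀, hLn, hη]
  abel

end Groth.Agent.H3CAlg.Sect0
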