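import Groth.Agent.H4PSect.Punctured

/-!
# Dividing a family of sections by generators
-/

set_option autoImplicit false
set_option linter.style.haveILetI false
set_option linter.unusedSectionVars false

universe u

open CategoryTheory AlgebraicGeometry Opposite TopologicalSpace
open Groth.Agent.H4PSect

namespace Groth.Agent.H3CAlg.Sect0

variable {R : CommRingCat.{u}} [IsNoetherianRing R] (M : ModuleCat.{u} R) {k : ℕ} (r : Fin k → R)
variable {W : (Spec R).Opens} (hW : W ≤ P (Ideal.span (Set.range r)))

include hW in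
theorem eq_zero_of_smul_eq_zero (x : S M W) (hx : ∀ i, r i • x = 0) : x = 0 :=
  eq_zero_on_of_killed (Ideal.span (Set.range r)) M hW 1 x fun a ha => by
    rw [pow_one] at ha
    exact LinearMap.mem_ker.1 ((Ideal.span_le.2 (Set.range_subset_iff.2 fun i =>
      LinearMap.mem_ker.2 (show LinearMap.toSpanSingleton R (S M W) x (r i) = 0 from hx i)) :
        Ideal.span (Set.range r) ≤ LinearMap.ker (LinearMap.toSpanSingleton R (S M W) x)) ha)

include hW in
theorem exists_smul_eq (z : Fin k → S M W) (hz : ∀ i j, r j • z i = r i • z j) :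
    ∃ x : S M W, ∀ i, r i • x = z i := by
  let D : Fin k → (Spec R).Opens := fun i => W ⊓ (PrimeSpectrum.basicOpen (r i) : (Spec R).Opens)
  have hu : ∀ i, ∃ v : S M (D i), r i • v = res M inf_le_left (z i) := fun i =>
    ((Module.End.isUnit_iff _).1 ((tilde M).isUnit_algebraMap_end_of_le_basicOpen (r i)
      (inf_le_right : D i ≤ PrimeSpectrum.basicOpen (r i)))).2 _
  choose v hv using hu
  have key : ∀ i j (V : (Spec R).Opens) (hi : V ≤ D i) (hj : V ≤ D j), res M hi (v i) = res M hj (v j) := by
    intro i j V hi hj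
    refine sub_eq_zero.1 (eq_zero_of_pow_smul M (hi.trans inf_le_right) 1 _
      (eq_zero_of_pow_smul M (hj.trans inf_le_right) 1 _ ?_))
    have e : ∀ l (hl : V ≤ D l), r l • res M hl (v l) = res M (hl.trans inf_le_left) (z l) := fun l hl => by
      rw [← map_smul, hv]; exact res_res M hl inf_le_left _
    rw [pow_one, pow_one, smul_sub, smul_sub, e i hi, smul_comm (r j) (r i), e j hj, ← map_smul, ← map_smul, hz i j,
      sub_self]
  have hcov : W ≤ iSup D := fun p hp => by
    obtain ⟨i, hi⟩ : ∃ i, r i ∉ p.asIdeal := by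
      by_contra h
      push Not at h
      exact hW hp ((Ideal.span_le.2 (Set.range_subset_iff.2 h) : Ideal.span (Set.range r) ≤ p.asIdeal))
    exact Opens.mem_iSup.2 ⟨i, hp, hi⟩
  obtain ⟨x, hx, -⟩ := TopCat.Sheaf.existsUnique_gluing' (modulesSpecToSheaf.obj (tilde M)) D W
    (fun i => homOfLE inf_le_left) hcov v (fun i j => key i j _ inf_le_left inf_le_right)
  refine ⟨x, fun i => sub_eq_zero.1 (eq_zero_of_smul_eq_zero M r hW _ fun j => ?_)⟩
  rw [smul_sub, smul_comm, hz i j, ← smul_sub]
  have h : r j • x - z j = 0 := eq_zero_of_cover M _ fun p hp => by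
    obtain ⟨l, hl⟩ := Opens.mem_iSup.1 (hcov hp)
    refine ⟨D l, inf_le_left, hl, eq_zero_of_pow_smul M inf_le_right 1 _ ?_⟩
    rw [pow_one, ← map_smul, smul_sub, smul_comm, map_sub, map_smul, map_smul, show res M inf_le_left x = v l from hx l,
      hv, ← map_smul, ← map_sub, hz l j, sub_self, map_zero]
  rw [h, smul_zero]

end Groth.Agent.H3CAlg.Sect0
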