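import Groth.Agent.H3CAlg.Sect0.Colim
import Groth.Agent.H3CAlg.Sect0.Glue
import Groth.Agent.H3CAlg.Sect0.Extend

/-!
# Formal sections that become algebraic after multiplication
-/

set_option autoImplicit false
set_option linter.style.haveILetI false
set_option linter.unusedSectionVars false

universe u

open CategoryTheory CategoryTheory.Limits AlgebraicGeometry Opposite TopologicalSpace

namespace Groth.Agent.H3CAlg.Sect0

attribute [local instance 10000] H10Coh.hasSheafifyAb H10Coh.hasWeakSheafifyAb H10Coh.hasExtAb H10Coh.enoughInjAb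

variable (A : Type u) [CommRing A] [IsNoetherianRing A] (I 𝔞 : Ideal A)
variable {M : Type u} [AddCommGroup M] [Module A M]

local notation "Sp" => (Spec (CommRingCat.of A))

/-- Finite intersections of admissible opens. -/
theorem exists_admissible_le {ι : Type*} [Fintype ι] (V₀ : (Sp).Opens)
    (h₀ : Formal2.Admissible A I (LocCoh.puncturedOpen A 𝔞) V₀) (V : ι → (Sp).Opens)
    (hV : ∀ i, Formal2.Admissible A I (LocCoh.puncturedOpen A 𝔞) (V i)) :
    ∃ W : (Sp).Opens, Formal2.Admissible A I (LocCoh.puncturedOpen A 𝔞) W ∧ W ≤ V₀ ∧ ∀ i, W ≤ V i := by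
  classical
  refine ⟨V₀ ⊓ Finset.univ.inf V, ⟨inf_le_left.trans h₀.1, fun p hp hpI => ⟨h₀.2 p hp hpI, ?_⟩⟩, inf_le_left,
    fun i => inf_le_right.trans (Finset.inf_le (Finset.mem_univ i))⟩
  suffices hs : ∀ s : Finset ι, p ∈ s.inf V from hs _
  intro s
  induction s using Finset.induction_on with
  | empty => exact Set.mem_univ _
  | insert a s ha ih => rw [Finset.inf_insert]; exact ⟨(hV a).2 p hp hpI, ih⟩

set_option maxHeartbeats 400000 in
/-- A formal section with algebraic multiples by generators is algebraic. -/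
theorem algebraic_of_multiples [Module.Finite A M]
    (y : ∀ n, Formal2.HV A (Formal2.quotPow A I M n) 0 (LocCoh.puncturedOpen A 𝔞)) {k : ℕ} (r : Fin k → A)
    (V₀ : (Sp).Opens) (h₀ : Formal2.Admissible A I (LocCoh.puncturedOpen A 𝔞) V₀)
    (hr : V₀ ≤ LocCoh.puncturedOpen A (Ideal.span (Set.range r)))
    (h : ∀ i, ∃ (V : (Sp).Opens) (hV : Formal2.Admissible A I (LocCoh.puncturedOpen A 𝔞) V) (z : H24Formal2.Sm A M V),
      ∀ n, H24Formal2.SmMap A (Formal2.quotPowπ A I M n) V z =
        r i • SmRes A (Formal2.quotPow A I M n) hV.1 (σ A _ _ (y n))) :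
    ∃ (V : (Sp).Opens) (hV : Formal2.Admissible A I (LocCoh.puncturedOpen A 𝔞) V) (x : Formal2.HV A M 0 V),
      ∀ n, Formal2.HVres A (Formal2.quotPow A I M n) 0 hV.1 (y n) = Formal2.HVmap A (Formal2.quotPowπ A I M n) 0 V x := by
  haveI : IsNoetherianRing ↥(CommRingCat.of A) := ‹IsNoetherianRing A›
  choose V hV z hz using h
  obtain ⟨W, hW, hW0, hWV⟩ := exists_admissible_le A I 𝔞 V₀ h₀ V hV
  let t : ∀ n, H24Formal2.Sm A (Formal2.quotPow A I M n) W := fun n => σ A _ _ (Formal2.HVres A _ 0 hW.1 (y n))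
  let w : Fin k → H24Formal2.Sm A M W := fun i => SmRes A M (hWV i) (z i)
  have hw : ∀ i n, H24Formal2.SmMap A (Formal2.quotPowπ A I M n) W (w i) = r i • t n := fun i n => by
    show H24Formal2.SmMap A _ W (SmRes A M (hWV i) (z i)) = r i • σ A _ _ (Formal2.HVres A _ 0 hW.1 (y n))
    rw [← SmMap_res, hz, map_smul, σ_res]
    exact congrArg (r i • ·) (H4PSect.res_res (R := CommRingCat.of A) (ModuleCat.of A _) (hWV i) (hV i).1 _)
  have hd : ∀ q : Fin k × Fin k, ∃ (V' : (Sp).Opens)
      (h' : Formal2.Admissible A I (LocCoh.puncturedOpen A 𝔞) V' ∧ V' ≤ W),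
      SmRes A M h'.2 (r q.2 • w q.1 - r q.1 • w q.2) = 0 := fun q => by
    obtain ⟨x, hx⟩ := (σ A M W).surjective (r q.2 • w q.1 - r q.1 • w q.2)
    obtain ⟨V', h', h0⟩ := inj_colim A I 𝔞 W hW x fun n => (σ A _ W).injective (by
      rw [σ_map, hx, map_sub, map_smul, map_smul, hw, hw, smul_comm, sub_self, map_zero])
    exact ⟨V', h', by rw [← hx, ← σ_res, h0, map_zero]⟩
  choose V' hV' hd' using hd
  obtain ⟨W', hW', hW'W, hW'V⟩ := exists_admissible_le A I 𝔞 W hW V' fun q => (hV' q).1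
  obtain ⟨x, hx⟩ := exists_smul_eq (R := CommRingCat.of A) (ModuleCat.of A M) r ((hW'W.trans hW0).trans hr)
    (fun i => SmRes A M hW'W (w i)) fun i j => by
      have h := congrArg (SmRes A M (hW'V (i, j))) (hd' (i, j))
      erw [H4PSect.res_res, map_zero, map_sub, map_smul, map_smul, sub_eq_zero] at h
      exact h
  refine ⟨W', hW', (σ A M W').symm x, fun n => ((σ A _ W').injective ?_).symm⟩
  rw [σ_map, AddEquiv.apply_symm_apply]
  refine sub_eq_zero.1 (eq_zero_of_smul_eq_zero (R := CommRingCat.of A) (ModuleCat.of A _) r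
    ((hW'W.trans hW0).trans hr) _ fun i => ?_)
  rw [smul_sub, ← map_smul, hx i, sub_eq_zero, ← SmMap_res, hw, map_smul]
  refine congrArg (r i • ·) ?_
  show SmRes A _ hW'W (σ A _ W (Formal2.HVres A _ 0 hW.1 (y n))) = σ A _ W' (Formal2.HVres A _ 0 hW'.1 (y n))
  rw [← σ_res, H24Formal2.HVres_trans]

theorem qle_mk (X : Type u) [AddCommGroup X] [Module A X] {n m : ℕ} (h : n ≤ m) (v : X) :
    qle A I X h (Submodule.Quotient.mk v) = Submodule.Quotient.mk v :=
  LinearMap.congr_fun (qle_π A I X h) v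

theorem quotPowTrans_mk (X : Type u) [AddCommGroup X] [Module A X] (n : ℕ) (v : X) :
    Formal2.quotPowTrans A I X n (Submodule.Quotient.mk v) = Submodule.Quotient.mk v := by
  rw [qle_trans', qle_mk]

variable {N P : Type u} [AddCommGroup N] [Module A N] [AddCommGroup P] [Module A P]

set_option maxHeartbeats 400000 in
/-- Formal sections killed in a quotient come from sections of the submodule near `V(I)`. -/
theorem formal_lift [Module.Finite A N] (f : M →ₗ[A] N) (g : N →ₗ[A] P) (hf : Function.Injective f)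
    (hg : Function.Surjective g) (hfg : LinearMap.range f = LinearMap.ker g) (h : Surj A I 𝔞 M)
    (d : ∀ n, Formal2.HV A (Formal2.quotPow A I N n) 0 (LocCoh.puncturedOpen A 𝔞))
    (hd : ∀ n, Formal2.HVmap A (Formal2.quotPowTrans A I N n) 0 _ (d (n + 1)) = d n)
    (qg : ∀ n, Formal2.quotPow A I N n →ₗ[A] Formal2.quotPow A I P n)
    (hqg : ∀ n, qg n ∘ₗ Formal2.quotPowπ A I N n = Formal2.quotPowπ A I P n ∘ₗ g)
    (hd0 : ∀ n, Formal2.HVmap A (qg n) 0 _ (d n) = 0) :
    ∃ (V : (Sp).Opens) (hV : Formal2.Admissible A I (LocCoh.puncturedOpen A 𝔞) V) (t : Formal2.HV A M 0 V),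
      ∀ n, Formal2.HVres A _ 0 hV.1 (d n) =
        Formal2.HVmap A (Formal2.quotPowπ A I N n) 0 V (Formal2.HVmap A f 0 V t) := by
  let qf : ∀ n, Formal2.quotPow A I M n →ₗ[A] Formal2.quotPow A I N n := fun n =>
    Submodule.mapQ _ _ f (by
      rw [← Submodule.map_le_iff_le_comap, Submodule.map_smul'']; exact Submodule.smul_mono le_rfl le_top)
  have eqf : ∀ n, qf n ∘ₗ Formal2.quotPowπ A I M n = Formal2.quotPowπ A I N n ∘ₗ f := fun n => LinearMap.ext fun _ => rfl
  have htf : ∀ n, Formal2.quotPowTrans A I N n ∘ₗ qf (n + 1) = qf n ∘ₗ Formal2.quotPowTrans A I M n := fun n =>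
    Submodule.linearMap_qext _ rfl
  have hqgπ : ∀ n v, qg n (Formal2.quotPowπ A I N n v) = Formal2.quotPowπ A I P n (g v) := fun n v =>
    LinearMap.congr_fun (hqg n) v
  have qf_mk : ∀ n v, qf n (Submodule.Quotient.mk v) = Submodule.Quotient.mk (f v) := fun n v =>
    LinearMap.congr_fun (eqf n) v
  have hker : ∀ n, LinearMap.range (LinearMap.range (qf n)).subtype = LinearMap.ker (qg n) := by
    intro n
    rw [Submodule.range_subtype]
    refine le_antisymm ?_ fun z hz => ?_
    · rintro _ ⟨w, rfl⟩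
      obtain ⟨w, rfl⟩ := Submodule.Quotient.mk_surjective _ w
      refine (hqgπ n (f w)).trans ?_
      rw [show g (f w) = 0 from LinearMap.mem_ker.1 (hfg.le ⟨w, rfl⟩), map_zero]
    · obtain ⟨v, rfl⟩ := Submodule.Quotient.mk_surjective _ z
      have hv : g v ∈ Submodule.map g (I ^ (n + 1) • (⊤ : Submodule A N)) := by
        rw [Submodule.map_smul'', Submodule.map_top, LinearMap.range_eq_top.2 hg]
        exact (Submodule.Quotient.mk_eq_zero _).1 ((hqgπ n v).symm.trans (LinearMap.mem_ker.1 hz))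
      obtain ⟨v', hv', he⟩ := hv
      obtain ⟨w, hw⟩ : v - v' ∈ LinearMap.range f := hfg.ge (by rw [LinearMap.mem_ker, map_sub, he, sub_self])
      refine ⟨Submodule.Quotient.mk w, ?_⟩
      show Submodule.Quotient.mk (f w) = Submodule.Quotient.mk v
      rw [hw, Submodule.Quotient.eq, show v - v' - v = -v' by abel]
      exact neg_mem hv'
  have hsurj : ∀ n, Function.Surjective (qg n) := fun n z => by
    obtain ⟨z, rfl⟩ := Submodule.Quotient.mk_surjective _ z
    obtain ⟨v, rfl⟩ := hg z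
    exact ⟨_, hqgπ n v⟩
  have hlift : ∀ n, ∃ u, Formal2.HVmap A (LinearMap.range (qf n)).subtype 0 _ u = d n := fun n =>
    H24Formal2.exists_HVmap_eq A _ (qg n) Subtype.val_injective (hsurj n) (hker n) _ _ (hd0 n)
  choose u hu using hlift
  obtain ⟨c, hc⟩ := Ideal.exists_pow_inf_eq_pow_smul I (LinearMap.range f)
  have hlk : ∀ n, LinearMap.ker (qf (n + c)).rangeRestrict ≤ LinearMap.ker (qle A I M (Nat.le_add_right n c)) := by
    intro n z hz
    rw [LinearMap.ker_rangeRestrict, LinearMap.mem_ker] at hz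
    obtain ⟨m, rfl⟩ := Submodule.Quotient.mk_surjective _ z
    have hfm : f m ∈ I ^ (n + c + 1) • (⊤ : Submodule A N) ⊓ LinearMap.range f :=
      ⟨(Submodule.Quotient.mk_eq_zero _).1 hz, ⟨m, rfl⟩⟩
    rw [hc (n + c + 1) (by omega), show n + c + 1 - c = n + 1 by omega] at hfm
    have h2 : f m ∈ Submodule.map f (I ^ (n + 1) • (⊤ : Submodule A M)) := by
      rw [Submodule.map_smul'', Submodule.map_top]
      exact Submodule.smul_mono le_rfl inf_le_right hfm
    obtain ⟨m', hm', he⟩ := h2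
    exact (Submodule.Quotient.mk_eq_zero _).2 (hf he ▸ hm')
  let ρ : ∀ n, ↥(LinearMap.range (qf (n + c))) →ₗ[A] Formal2.quotPow A I M n := fun n =>
    (LinearMap.ker (qf (n + c)).rangeRestrict).liftQ _ (hlk n) ∘ₗ
      (LinearMap.quotKerEquivOfSurjective (qf (n + c)).rangeRestrict (qf (n + c)).surjective_rangeRestrict).symm.toLinearMap
  have hρ : ∀ n z, ρ n ((qf (n + c)).rangeRestrict z) = qle A I M (Nat.le_add_right n c) z := fun n z => by
    show (LinearMap.ker _).liftQ _ (hlk n) ((LinearMap.quotKerEquivOfSurjective _ _).symm _) = _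
    rw [← LinearMap.quotKerEquivOfSurjective_apply_mk (qf (n + c)).rangeRestrict
      (qf (n + c)).surjective_rangeRestrict z, LinearEquiv.symm_apply_apply]
    rfl
  let y : ∀ n, Formal2.HV A (Formal2.quotPow A I M n) 0 (LocCoh.puncturedOpen A 𝔞) := fun n =>
    Formal2.HVmap A (ρ n) 0 _ (u (n + c))
  have hy0 : ∀ n, Formal2.HVmap A (qf n) 0 _ (y n) = d n := fun n => by
    rw [H24Formal2.HVmap_comp, show qf n ∘ₗ ρ n = qle A I N (Nat.le_add_right n c) ∘ₗ
      (LinearMap.range (qf (n + c))).subtype from LinearMap.ext fun z => by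
        obtain ⟨w, rfl⟩ := (qf (n + c)).surjective_rangeRestrict z
        show qf n (ρ n ((qf (n + c)).rangeRestrict w)) = _
        rw [hρ]
        obtain ⟨v, rfl⟩ := Submodule.Quotient.mk_surjective _ w
        show qf n (qle A I M (Nat.le_add_right n c) (Submodule.Quotient.mk v)) = qle A I N (Nat.le_add_right n c) (qf (n + c) (Submodule.Quotient.mk v))
        rw [qle_mk, qf_mk, qf_mk, qle_mk], ← H24Formal2.HVmap_comp, hu, compat A I _ d hd]
  have hy : ∀ n, Formal2.HVmap A (Formal2.quotPowTrans A I M n) 0 _ (y (n + 1)) = y n := fun n => by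
    let π' : ↥(LinearMap.range (qf (n + 1 + c))) →ₗ[A] ↥(LinearMap.range (qf (n + c))) :=
      (qle A I N (Nat.add_le_add_right n.le_succ c)).restrict fun z hz => by
        obtain ⟨w, rfl⟩ := hz
        obtain ⟨v, rfl⟩ := Submodule.Quotient.mk_surjective _ w
        exact ⟨Submodule.Quotient.mk v, by rw [qf_mk, qf_mk, qle_mk]⟩
    have hu' : Formal2.HVmap A π' 0 _ (u (n + 1 + c)) = u (n + c) := by
      refine H24Formal2.HVmap_injective A (LinearMap.range (qf (n + c))).subtype Subtype.val_injective _ ?_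
      rw [H24Formal2.HVmap_comp, show (LinearMap.range (qf (n + c))).subtype ∘ₗ π' =
        qle A I N (Nat.add_le_add_right n.le_succ c) ∘ₗ (LinearMap.range (qf (n + 1 + c))).subtype from rfl,
        ← H24Formal2.HVmap_comp, hu, compat A I _ d hd, hu]
    show _ = Formal2.HVmap A (ρ n) 0 _ (u (n + c))
    rw [← hu', H24Formal2.HVmap_comp, H24Formal2.HVmap_comp, show Formal2.quotPowTrans A I M n ∘ₗ ρ (n + 1) =
      ρ n ∘ₗ π' from LinearMap.ext fun z => by
        obtain ⟨w, rfl⟩ := (qf (n + 1 + c)).surjective_rangeRestrict z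
        obtain ⟨v, rfl⟩ := Submodule.Quotient.mk_surjective _ w
        show Formal2.quotPowTrans A I M n (ρ (n + 1) ((qf (n + 1 + c)).rangeRestrict (Submodule.Quotient.mk v))) =
          ρ n (π' ((qf (n + 1 + c)).rangeRestrict (Submodule.Quotient.mk v)))
        rw [hρ, show π' ((qf (n + 1 + c)).rangeRestrict
            (Submodule.Quotient.mk v)) = (qf (n + c)).rangeRestrict (Submodule.Quotient.mk v) from Subtype.ext (by
              show qle A I N (Nat.add_le_add_right n.le_succ c) (qf (n + 1 + c) (Submodule.Quotient.mk v)) = qf (n + c) (Submodule.Quotient.mk v)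
              rw [qf_mk, qf_mk, qle_mk]), hρ, qle_mk, qle_mk, quotPowTrans_mk]]
  obtain ⟨V, hV, t, ht⟩ := h y hy
  refine ⟨V, hV, t, fun n => ?_⟩
  rw [← hy0 n, H24Formal2.HVres_HVmap, ht n, H24Formal2.HVmap_comp, H24Formal2.HVmap_comp, eqf]

/-- Extensions. -/
theorem surj_of_shortExact [Module.Finite A N] [Module.Finite A M] [Module.Finite A P] (f : M →ₗ[A] N) (g : N →ₗ[A] P)
    (hf : Function.Injective f) (hg : Function.Surjective g) (hfg : LinearMap.range f = LinearMap.ker g)
    (hM : Surj A I 𝔞 M) (hP : Surj A I 𝔞 P) : Surj A I 𝔞 N := by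
  intro y hy
  let qg : ∀ n, Formal2.quotPow A I N n →ₗ[A] Formal2.quotPow A I P n := fun n =>
    Submodule.mapQ _ _ g (by
      rw [← Submodule.map_le_iff_le_comap, Submodule.map_smul'']; exact Submodule.smul_mono le_rfl le_top)
  have hqg : ∀ n, qg n ∘ₗ Formal2.quotPowπ A I N n = Formal2.quotPowπ A I P n ∘ₗ g := fun n => LinearMap.ext fun _ => rfl
  have htg : ∀ n, Formal2.quotPowTrans A I P n ∘ₗ qg (n + 1) = qg n ∘ₗ Formal2.quotPowTrans A I N n := fun n =>
    Submodule.linearMap_qext _ rfl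
  obtain ⟨V, hV, x, hx⟩ := hP (fun n => Formal2.HVmap A (qg n) 0 _ (y n)) fun n => by
    rw [H24Formal2.HVmap_comp, htg, ← H24Formal2.HVmap_comp, hy]
  obtain ⟨K, rfl⟩ := opens_eq_punctured A V
  obtain ⟨k, hk⟩ := H24Formal2.exists_pow_smul_mem A K (σ A P _ x)
  obtain ⟨s, r, hr⟩ := Submodule.fg_iff_exists_fin_generating_family.1 (IsNoetherian.noetherian (K ^ k))
  refine algebraic_of_multiples A I 𝔞 y r _ hV (fun p hp hp' => ?_) fun i => ?_
  · exact hp (p.2.le_of_pow_le (n := k) (hr ▸ hp'))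
  obtain ⟨p, hp⟩ := hk (r i) (hr ▸ Ideal.subset_span (Set.mem_range_self i))
  obtain ⟨m, rfl⟩ := hg p
  let η : ∀ (X : Type u) [AddCommGroup X] [Module A X], X → Formal2.HV A X 0 (LocCoh.puncturedOpen A 𝔞) :=
    fun X _ _ v => (σ A X _).symm (H24Formal2.toSm A X _ v)
  let d : ∀ n, Formal2.HV A (Formal2.quotPow A I N n) 0 (LocCoh.puncturedOpen A 𝔞) := fun n =>
    Formal2.HVmap A (r i • LinearMap.id) 0 _ (y n) - η _ (Formal2.quotPowπ A I N n m)
  have hη : ∀ {X Y : Type u} [AddCommGroup X] [Module A X] [AddCommGroup Y] [Module A Y] (φ : X →ₗ[A] Y) (v : X),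
      Formal2.HVmap A φ 0 _ (η X v) = η Y (φ v) := fun φ v => (σ A _ _).injective (by
    rw [σ_map]
    simp only [η, AddEquiv.apply_symm_apply]
    exact H24Formal2.SmMap_toSm A φ _ v)
  have hdc : ∀ n, Formal2.HVmap A (Formal2.quotPowTrans A I N n) 0 _ (d (n + 1)) = d n := fun n => by
    rw [map_sub, H24Formal2.HVmap_comp, hη, LinearMap.comp_smul, LinearMap.comp_id,
      show r i • Formal2.quotPowTrans A I N n = (r i • LinearMap.id) ∘ₗ Formal2.quotPowTrans A I N n from
        LinearMap.ext fun _ => rfl, ← H24Formal2.HVmap_comp, hy]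
    rfl
  have hd0 : ∀ n, Formal2.HVmap A (qg n) 0 _ (d n) = 0 := fun n => by
    refine eq_zero_of_res_eq_zero I 𝔞 (n + 1) (fun a ha z => ?_) hV _ ((σ A _ _).injective ?_)
    · obtain ⟨v, rfl⟩ := Submodule.Quotient.mk_surjective _ z
      exact (Submodule.Quotient.mk_eq_zero _).2 (Submodule.smul_mem_smul ha Submodule.mem_top)
    rw [map_zero, map_sub, H24Formal2.HVmap_comp, hη, LinearMap.comp_smul, LinearMap.comp_id,
      show r i • qg n = (r i • LinearMap.id) ∘ₗ qg n from LinearMap.ext fun _ => rfl, ← H24Formal2.HVmap_comp,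
      map_sub, map_sub, σ_res, σ_res, σ_map, H24Formal2.SmMap_smul_id, map_smul, ← σ_res, hx n, σ_map,
      AddEquiv.apply_symm_apply, ← map_smul, ← hp, H24Formal2.SmMap_toSm, SmRes_toSm]
    exact sub_self _
  obtain ⟨V', hV', t, ht⟩ := formal_lift A I 𝔞 f g hf hg hfg hM d hdc qg hqg hd0
  refine ⟨V', hV', H24Formal2.toSm A N V' m + σ A N V' (Formal2.HVmap A f 0 V' t), fun n => ?_⟩
  have h := congrArg (σ A _ V') (ht n)
  rw [σ_res, σ_map, map_sub, σ_map, H24Formal2.SmMap_smul_id, AddEquiv.apply_symm_apply, map_sub, map_smul,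
    SmRes_toSm] at h
  rw [map_add, H24Formal2.SmMap_toSm, ← h]
  exact add_sub_cancel _ _

end Groth.Agent.H3CAlg.Sect0
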