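import Groth.Agent.H3CAlg.Sect0.Hull
import Groth.Agent.H3CAlg.Sect0.Level1

/-!
# Formal sections over the punctured spectrum: assembling the coprimary pieces
-/

set_option autoImplicit false
set_option linter.style.haveILetI false
set_option linter.unusedSectionVars false

universe u

open CategoryTheory
open Groth.Agent.H4DR

attribute [local instance] HasDerivedCategory.standard

namespace Groth.Agent.H3CAlg.Sect0

variable {A : Type u} [CommRing A] [IsNoetherianRing A]

/-- The support of a coprimary module lies over its prime. -/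
theorem le_of_mem_support (N : Type u) [AddCommGroup N] [Module A N] [Module.Finite A N] {P : Ideal A}
    (hass : associatedPrimes A N = {P}) (q : PrimeSpectrum A) (hq : q ∈ Module.support A N) : P ≤ q.asIdeal := by
  rw [Module.support_eq_zeroLocus] at hq
  obtain ⟨Q, hQ, hQq⟩ := Ideal.exists_minimalPrimes_le (show Module.annihilator A N ≤ q.asIdeal from hq)
  have := Module.associatedPrimes.minimalPrimes_annihilator_subset_associatedPrimes A N hQ
  rw [hass, Set.mem_singleton_iff] at this
  exact this.ge.trans hQq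

/-- Every compatible family of formal sections comes from sections near `V(I)`. -/
theorem surj_of_dim (I 𝔞 : Ideal A) (hI : I ≤ 𝔞) [IsAdicComplete I A] (hω : ∃ ω : Dual.D A, Dual.IsDualizing A ω)
    (d : ℕ) (hd : LocCoh.CdLE A I d) (M : Type u) [AddCommGroup M] [Module A M] [Module.Finite A M]
    (h₂ : ∀ p ∈ associatedPrimes A M, ¬ 𝔞 ≤ p → ¬ I ≤ p →
      (∃ r : Ideal A, r.IsPrime ∧ p ≤ r ∧ I ≤ r ∧ ¬ 𝔞 ≤ r) →
        ∀ (q : Ideal A) [q.IsPrime], p ≤ q → 𝔞 ≤ q → ((d + 1 : ℕ) : WithBot ℕ∞) < Formal2.dimBetween A p q) :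
    Surj A I 𝔞 M := by
  classical
  obtain ⟨Q, hQ, hQ0⟩ := exists_coprimary (A := A) M
  haveI : Fintype (associatedPrimes A M) := (associatedPrimes.finite A M).fintype
  let e : Fin (Fintype.card (associatedPrimes A M)) ≃ associatedPrimes A M := (Fintype.equivFin _).symm
  have piece : ∀ p : associatedPrimes A M, Surj A I 𝔞 (M ⧸ Q p) := by
    intro p
    haveI hp : (p : Ideal A).IsPrime := IsAssociatedPrime.isPrime p.2
    by_cases hIp : I ≤ (p : Ideal A)
    · have hle : I ≤ (Module.annihilator A (M ⧸ Q p)).radical := by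
        rw [Ideal.radical_eq_sInf]
        refine le_sInf fun J hJ => ?_
        haveI := hJ.2
        exact hIp.trans (le_of_mem_support _ (hQ p) ⟨J, hJ.2⟩
          (by rw [Module.support_eq_zeroLocus]; exact hJ.1))
      obtain ⟨c, hc⟩ := Ideal.exists_pow_le_of_le_radical_of_fg hle (IsNoetherian.noetherian I)
      refine surj_of_killed A I 𝔞 c (Submodule.eq_bot_iff _ |>.2 fun x hx => ?_)
      refine Submodule.smul_induction_on hx (fun a ha y _ => ?_) fun x y hx hy => by rw [hx, hy, add_zero]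
      exact Module.mem_annihilator.1 (hc ha) y
    by_cases hr : ∃ r : Ideal A, r.IsPrime ∧ (p : Ideal A) ≤ r ∧ I ≤ r ∧ ¬ 𝔞 ≤ r
    · obtain ⟨X, _, _, _, f, hf, H⟩ := exists_hull (I := I) (d := d) hω hd (PrimeSpectrum.zeroLocus (𝔞 : Set A))
        (PrimeSpectrum.zeroLocus_anti_mono_ideal hI) (M ⧸ Q p) ⟨p, hp⟩ (hQ p) fun q hpq hq =>
          h₂ p p.2 (fun h => hIp (hI.trans h)) hIp hr q.asIdeal hpq hq
      exact surj_of_injective A I 𝔞 f hf (surj_level_one I 𝔞 hω hd X H)
    · refine surj_of_support A I 𝔞 fun q hqa hqI hq => hr ⟨q.asIdeal, q.2, le_of_mem_support _ (hQ p) q hq, hqI, hqa⟩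
  refine surj_of_injective A I 𝔞 (LinearMap.pi fun j => (Q (e j)).mkQ) ?_
    (surj_pi A I 𝔞 (fun j => M ⧸ Q (e j)) fun j => piece (e j))
  refine (injective_iff_map_eq_zero _).2 fun x hx => hQ0 x fun p => ?_
  have h := congrFun hx (e.symm p)
  rw [LinearMap.pi_apply, Pi.zero_apply, Submodule.mkQ_apply, Submodule.Quotient.mk_eq_zero] at h
  exact (e.apply_symm_apply p) ▸ h

end Groth.Agent.H3CAlg.Sect0
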