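import Groth.Agent.S1738
import Groth.Agent.H3CAlg.BootstrapJ0
import Groth.Agent.H3CAlg.Boot.Pointwise

/-!
# Coprimary modules embed into modules to which the bootstrap applies at level one
-/

set_option autoImplicit false
set_option linter.style.haveILetI false
set_option linter.unusedSectionVars false

universe u

open CategoryTheory IsLocalRing
open Groth.Agent.H4DR
open Groth.Agent.H4DR.Dualizing (Loc deg)

attribute [local instance] HasDerivedCategory.standard

namespace Groth.Agent.H3CAlg.Sect0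

variable {A : Type u} [CommRing A] [IsNoetherianRing A]

/-- Quotients with one associated prime detect all elements. -/
theorem exists_coprimary (M : Type u) [AddCommGroup M] [Module A M] [Module.Finite A M] :
    ∃ Q : associatedPrimes A M → Submodule A M,
      (∀ p, associatedPrimes A (M ⧸ Q p) = {(p : Ideal A)}) ∧ ∀ x : M, (∀ p, x ∈ Q p) → x = 0 := by
  haveI : IsNoetherian A M := isNoetherian_of_isNoetherianRing_of_finite A M
  have hQ : ∀ p : associatedPrimes A M, ∃ Q : Submodule A M, (p : Ideal A) ∉ associatedPrimes A Q ∧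
      associatedPrimes A (M ⧸ Q) = {(p : Ideal A)} := by
    intro p
    have hne : ({Q : Submodule A M | (p : Ideal A) ∉ associatedPrimes A Q}).Nonempty :=
      ⟨⊥, fun h => not_isAssociatedPrime_of_subsingleton h⟩
    obtain ⟨Q, hQ, hmax⟩ := set_has_maximal_iff_noetherian.2 ‹IsNoetherian A M› _ hne
    refine ⟨Q, hQ, ?_⟩
    have hsub : associatedPrimes A (M ⧸ Q) ⊆ {(p : Ideal A)} := by
      intro P hP
      obtain ⟨hPp, f, hf⟩ := (isAssociatedPrime_iff_exists_injective_linearMap P (M ⧸ Q)).1 hP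
      let Q' : Submodule A M := (LinearMap.range f).comap Q.mkQ
      have hlt : Q < Q' := by
        refine lt_of_le_of_ne (fun x hx => ?_) fun he => ?_
        · show Q.mkQ x ∈ LinearMap.range f
          rw [show Q.mkQ x = 0 from (Submodule.Quotient.mk_eq_zero Q).2 hx]
          exact zero_mem _
        · obtain ⟨v, hv⟩ := Submodule.Quotient.mk_surjective Q (f (Ideal.Quotient.mk P 1))
          have hvQ : v ∈ Q := he ▸ (show v ∈ Q' from ⟨_, hv.symm⟩)
          rw [(Submodule.Quotient.mk_eq_zero Q).2 hvQ] at hv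
          have : Ideal.Quotient.mk P 1 = 0 := hf (hv.symm.trans (map_zero f).symm)
          exact hPp.ne_top ((Ideal.eq_top_iff_one P).2 (Ideal.Quotient.eq_zero_iff_mem.1 this))
      have hpQ' : (p : Ideal A) ∈ associatedPrimes A Q' := by
        by_contra h
        exact hmax Q' h hlt
      let g : ↥Q' →ₗ[A] ↥(LinearMap.range f) := (Q.mkQ ∘ₗ Q'.subtype).codRestrict _ fun x => x.2
      have hex : Function.Exact (Submodule.inclusion hlt.le) g := fun x => by
        constructor
        · intro hx
          exact ⟨⟨x.1, (Submodule.Quotient.mk_eq_zero Q).1 (congrArg Subtype.val hx)⟩, rfl⟩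
        · rintro ⟨y, rfl⟩
          exact Subtype.ext ((Submodule.Quotient.mk_eq_zero Q).2 y.2)
      rcases associatedPrimes.subset_union_of_exact (Submodule.inclusion_injective hlt.le) hex hpQ' with h | h
      · exact absurd h hQ
      · rw [← LinearEquiv.AssociatedPrimes.eq (LinearEquiv.ofInjective f hf)] at h
        have := IsAssociatedPrime.eq_radical (Ideal.IsPrime.isPrimary hPp) h
        rw [hPp.radical] at this
        exact this.symm
    refine Set.Subset.antisymm hsub (Set.singleton_subset_iff.2 ?_)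
    rcases associatedPrimes.subset_union_of_exact Q.injective_subtype (LinearMap.exact_subtype_mkQ Q) p.2 with h | h
    · exact absurd h hQ
    · exact h
  choose Q hQ₁ hQ₂ using hQ
  refine ⟨Q, hQ₂, fun x hx => ?_⟩
  by_contra hne
  let K : Submodule A M := ⨅ p, Q p
  haveI : Nontrivial K := ⟨⟨⟨x, (Submodule.mem_iInf _).2 hx⟩, 0, fun h => hne (congrArg Subtype.val h)⟩⟩
  obtain ⟨P, hP⟩ := associatedPrimes.nonempty (R := A) (M := K)
  have hPM := associatedPrimes.subset_of_injective K.injective_subtype hP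
  exact hQ₁ ⟨P, hPM⟩ (associatedPrimes.subset_of_injective (Submodule.inclusion_injective (iInf_le Q ⟨P, hPM⟩)) hP)

variable {I : Ideal A} {d : ℕ}

/-- The hypotheses at level one from an inequality at the shallow points. -/
theorem hyp_one (hdc : ∃ ω : Dual.D A, Dual.IsDualizing A ω) (hcd : LocCoh.CdLE A I d) (T : Set (PrimeSpectrum A))
    (hT : T ⊆ PrimeSpectrum.zeroLocus (I : Set A)) (X : Type u) [AddCommGroup X] [Module A X] [Module.Finite A X]
    (key : ∀ p q : PrimeSpectrum A, p ≤ q → ¬ I ≤ p.asIdeal → q ∈ T →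
      Bootstrap.dep X p ≤ 1 → ((d + 1 : ℕ) : WithBot ℕ∞) <
        ((Bootstrap.dep X p : ℕ∞) : WithBot ℕ∞) + Formal2.dimBetween A p.asIdeal q.asIdeal) :
    Boot.Hyp X I T 1 d where
  sub := hT
  h4 p r q h₁ h₂ hp _ _ hq := by
    rcases le_or_gt ((1 : ℕ) : ℕ∞) (Bootstrap.dep X p) with h | h
    · exact Or.inl h
    · exact Or.inr (key p q (h₁.trans h₂) hp hq (h.le.trans (by norm_num)))
  h6 q hq p' hp' hmax := by
    have hIq : I ≤ q.asIdeal := hT hq
    obtain ⟨p, hpq, hpI, hle, heq⟩ := Boot.depth_compare (M := X) hdc q hIq p'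
    let R := Localization.AtPrime q.asIdeal
    haveI : IsNoetherianRing R := IsLocalization.isNoetherianRing q.asIdeal.primeCompl _ ‹_›
    haveI : IsNoetherianRing (Boot.Rhat I q) := H24Adic.isNoetherianRing_adicCompletion _
    haveI : IsLocalRing (Boot.Rhat I q) := S2290.result A I (IsNoetherian.noetherian _) q.asIdeal hIq
    rcases lt_or_ge (1 : ℕ∞) (Bootstrap.dep X p) with h | h
    · exact lt_of_lt_of_le (by exact_mod_cast h) hle
    have h1 := key p q hpq (hpI hp') hq h
    rw [← heq] at h1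
    have hmapI : I.map (algebraMap A (Boot.Rhat I q)) =
        (I.map (algebraMap A R)).map (algebraMap R (Boot.Rhat I q)) := by
      rw [IsScalarTower.algebraMap_eq A R (Boot.Rhat I q), ← Ideal.map_map]
    rw [hmapI] at hmax
    have hIR : I.map (algebraMap A R) ≤ maximalIdeal R := by
      rw [← Localization.AtPrime.map_eq_maximalIdeal]; exact Ideal.map_mono hIq
    have hmh : (maximalIdeal R).map (algebraMap R (Boot.Rhat I q)) = maximalIdeal (Boot.Rhat I q) :=
      IsLocalRing.eq_maximalIdeal (H26Boot.isMaximal_map_completion _ hIR)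
    have hrad : (p'.asIdeal ⊔ (I.map (algebraMap A R)).map (algebraMap R (Boot.Rhat I q))).radical =
        maximalIdeal (Boot.Rhat I q) := by
      refine le_antisymm ((maximalIdeal.isMaximal _).isPrime.radical_le_iff.2 (sup_le
        (le_maximalIdeal p'.2.ne_top) ((Ideal.map_mono hIR).trans hmh.le))) ?_
      rw [Ideal.radical_eq_sInf]
      refine le_sInf fun Q hQ => ?_
      obtain ⟨hle, hQp⟩ := hQ
      exact (IsLocalRing.eq_maximalIdeal (hmax ⟨Q, hQp⟩ (le_sup_left.trans hle) (le_sup_right.trans hle))).ge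
    have hdim := S8797Aux.ringKrullDim_quotient_le_of_cdLE (S8797Aux.cdLE_map (S8797Aux.cdLE_map hcd)) p'.asIdeal hrad
    by_contra hcon
    refine absurd (h1.trans_le (add_le_add (WithBot.coe_le_coe.2 (not_lt.1 hcon)) hdim)) (not_lt.2 ?_)
    rw [← WithBot.coe_add, ← WithBot.coe_natCast, WithBot.coe_le_coe]
    push_cast
    rw [add_comm]

/-- A coprimary module embeds into one to which the bootstrap applies at level one. -/
theorem exists_hull (hdc : ∃ ω : Dual.D A, Dual.IsDualizing A ω) (hcd : LocCoh.CdLE A I d) (T : Set (PrimeSpectrum A))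
    (hT : T ⊆ PrimeSpectrum.zeroLocus (I : Set A)) (N : Type u) [AddCommGroup N] [Module A N] [Module.Finite A N]
    (p₀ : PrimeSpectrum A) (hass : associatedPrimes A N = {p₀.asIdeal})
    (h₂ : ∀ q : PrimeSpectrum A, p₀ ≤ q → q ∈ T →
      ((d + 1 : ℕ) : WithBot ℕ∞) < Formal2.dimBetween A p₀.asIdeal q.asIdeal) :
    ∃ (X : Type u) (_ : AddCommGroup X) (_ : Module A X) (_ : Module.Finite A X) (f : N →ₗ[A] X),
      Function.Injective f ∧ Boot.Hyp X I T 1 d := by
  obtain ⟨ω, hω⟩ := id hdc
  let D : PrimeSpectrum A → ℤ := fun q => deg hω q - deg hω p₀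
  have hsupp : ∀ p : PrimeSpectrum A, Bootstrap.dep N p ≠ ⊤ → p₀ ≤ p := fun p hp => by
    have hs : p ∈ Module.support A N := by
      by_contra hns
      haveI := Module.notMem_support_iff.1 hns
      exact hp (H4Depth.idealDepth_eq_top (Subsingleton.elim _ _))
    rw [Module.support_eq_zeroLocus] at hs
    obtain ⟨P, hP, hPp⟩ := Ideal.exists_minimalPrimes_le (show Module.annihilator A N ≤ p.asIdeal from hs)
    have := Module.associatedPrimes.minimalPrimes_annihilator_subset_associatedPrimes A N hP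
    rw [hass, Set.mem_singleton_iff] at this
    exact this.ge.trans hPp
  have h0 : ∀ p : PrimeSpectrum A, Bootstrap.dep N p ≠ ⊤ → p ≠ p₀ → 1 ≤ Bootstrap.dep N p := fun p _ hne =>
    H4LC.one_le_depth_of_not_associated N (p := p) (by
      rw [hass, Set.mem_singleton_iff]; exact fun h => hne (PrimeSpectrum.ext h))
  obtain ⟨J, hJ1, hJ2⟩ := Bootstrap.exists_shallow_bound hω N {q | p₀ ≤ q ∧ 2 ≤ D q} 1
  have hJD : ∀ r : PrimeSpectrum A, J ≤ r.asIdeal → p₀ ≤ r ∧ 2 ≤ D r := by
    intro r hr
    obtain ⟨p, hpr, q, ⟨hq0, hqD⟩, hpq, hle⟩ := hJ2 r hr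
    have hfin : Bootstrap.dep N p ≠ ⊤ := fun h => by rw [h, top_add] at hle; exact absurd hle (by simp)
    have hp0 := hsupp p hfin
    obtain ⟨e, -, he, hne⟩ := Dualizing.exists_dim hω hpq
    obtain ⟨e₁, -, he₁, -⟩ := Dualizing.exists_dim hω hpr
    obtain ⟨e₂, -, he₂, -⟩ := Dualizing.exists_dim hω hp0
    refine ⟨hp0.trans hpr, ?_⟩
    rcases eq_or_ne p p₀ with rfl | hne'
    · have hd : ((deg hω q - deg hω p).toNat : ℕ∞) ≤ ((1 : ℕ) : ℕ∞) := le_trans le_add_self hle
      rw [Nat.cast_le] at hd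
      simp only [D] at hqD ⊢
      omega
    · have hd : ((deg hω q - deg hω p).toNat : ℕ∞) + 1 ≤ ((1 : ℕ) : ℕ∞) :=
        le_trans (by rw [add_comm]; exact add_le_add (h0 p hfin hne') le_rfl) hle
      rw [← Nat.cast_one, ← Nat.cast_add, Nat.cast_le] at hd
      simp only [D] at hqD ⊢
      omega
  have hp0J : ¬ J ≤ p₀.asIdeal := fun h => by have := (hJD p₀ h).2; simp [D] at this
  obtain ⟨X, _, _, _, f, hf, hd2⟩ := S1738Aux.main A hdc (PrimeSpectrum.zeroLocus (J : Set A))
    (H4LC.zeroLocus_stable J) N fun p q hcov hq hp => by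
      by_cases hfin : Bootstrap.dep N p = ⊤
      · show 1 ≤ Bootstrap.dep N p; rw [hfin]; exact le_top
      rcases eq_or_ne p p₀ with rfl | hne
      · obtain ⟨t, h1, h2, h3⟩ := HT.exists_series hω hcov.le
        have hl : 2 ≤ t.length := by
          have := (hJD q hq).2
          simp only [D] at this
          omega
        have hlt1 : t.head < t ⟨1, by omega⟩ := t.strictMono (Fin.mk_lt_mk.2 Nat.zero_lt_one)
        have hlt2 : t ⟨1, by omega⟩ < t.last := t.strictMono (by
          show (1 : ℕ) < t.length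
          omega)
        exact absurd (h2 ▸ hlt2) (hcov.2 (h1 ▸ hlt1))
      · exact h0 p hfin hne
  refine ⟨X, inferInstance, inferInstance, inferInstance, f, (injective_iff_map_eq_zero _).2 fun x hx => ?_,
    hyp_one hdc hcd T hT X fun p q hpq hpI hq hle => ?_⟩
  · by_contra hne
    have hmk : LocalizedModule.mk x (1 : p₀.asIdeal.primeCompl) = 0 := (hf p₀ hp0J).1 (by
      rw [LocalizedModule.map_mk, hx, LocalizedModule.zero_mk, map_zero])
    rw [← LocalizedModule.zero_mk (1 : p₀.asIdeal.primeCompl), LocalizedModule.mk_eq] at hmk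
    obtain ⟨c, hc⟩ := hmk
    simp only [one_smul, smul_zero, Submonoid.smul_def] at hc
    have hzd : (c : A) ∈ ⋃ P ∈ associatedPrimes A N, (P : Set A) := by
      rw [biUnion_associatedPrimes_eq_zero_divisors]
      exact ⟨x, hne, hc⟩
    rw [hass, Set.biUnion_singleton] at hzd
    exact c.2 hzd
  · have hpJ : ¬ J ≤ p.asIdeal := fun h => absurd (hd2 p h) (not_le.2 (lt_of_le_of_lt hle (by norm_num)))
    have hdep : Bootstrap.dep X p = Bootstrap.dep N p :=
      (S1738Aux.depth_eq_of_bijective f p.asIdeal (hf p hpJ)).symm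
    rw [hdep] at hle ⊢
    have hfin : Bootstrap.dep N p ≠ ⊤ := ne_top_of_le_ne_top (by simp) hle
    have hp0 := hsupp p hfin
    have h := h₂ q (hp0.trans hpq) hq
    rcases eq_or_ne p p₀ with rfl | hne
    · exact h.trans_le (by
        refine le_add_of_nonneg_left ?_
        rw [← WithBot.coe_zero, WithBot.coe_le_coe]
        exact zero_le)
    have hD : D p ≤ 1 := by
      by_contra hD
      exact hpJ (hJ1 p ⟨hp0, by omega⟩ (by exact_mod_cast hle))
    have h1 : Bootstrap.dep N p = ((1 : ℕ) : ℕ∞) :=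
      le_antisymm (by exact_mod_cast hle) (by exact_mod_cast h0 p hfin hne)
    rw [H24Formal2.dimBetween_eq (hp0.trans hpq), HT.krullDim_Icc hω (hp0.trans hpq)] at h
    rw [h1, H24Formal2.dimBetween_eq hpq, HT.krullDim_Icc hω hpq, ← WithBot.coe_add, ← WithBot.coe_natCast,
      WithBot.coe_lt_coe, ← Nat.cast_add, Nat.cast_lt]
    rw [← WithBot.coe_natCast, WithBot.coe_lt_coe, Nat.cast_lt] at h
    simp only [D] at hD
    omega

end Groth.Agent.H3CAlg.Sect0
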