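import Groth.Agent.H3CAlg.Sect0.Descend
import Groth.Agent.H24Adic.Basic
import Mathlib.RingTheory.AdicCompletion.Functoriality
import Mathlib.LinearAlgebra.Matrix.Charpoly.LinearMap

/-!
# Formal sections along a principal ideal
-/

set_option autoImplicit false
set_option linter.style.haveILetI false
set_option linter.unusedSectionVars false

universe u

open CategoryTheory CategoryTheory.Limits AlgebraicGeometry Opposite TopologicalSpace

namespace Groth.Agent.H3CAlg.Sect0

attribute [local instance 10000] H10Coh.hasSheafifyAb H10Coh.hasWeakSheafifyAb H10Coh.hasExtAb H10Coh.enoughInjAb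

variable (A : Type u) [CommRing A] [IsNoetherianRing A] (𝔞 : Ideal A)
variable {M : Type u} [AddCommGroup M] [Module A M]

local notation "Sp" => (Spec (CommRingCat.of A))

/-- Sections over the punctured spectrum are finite when `H^1_𝔞` is. -/
theorem finite_Sm [Module.Finite A M] [Module.Finite A (LocCoh.H 𝔞 1 M)] :
    Module.Finite A (H24Formal2.Sm A M (LocCoh.puncturedOpen A 𝔞)) := by
  haveI : Module.Finite A (LocCoh.DT 𝔞 M ⧸ LinearMap.range (LocCoh.toDT 𝔞 M)) :=
    Module.Finite.equiv (H4LC.cokerToDTEquiv 𝔞 M).symm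
  haveI : Module.Finite A (LocCoh.DT 𝔞 M) :=
    Module.Finite.of_submodule_quotient (LinearMap.range (LocCoh.toDT 𝔞 M))
  obtain ⟨ψ, hψ, -⟩ := H4LC.existsUnique_factor 𝔞 M (H24Formal2.toSm A M (LocCoh.puncturedOpen A 𝔞))
    (fun m hm => (H24Formal2.ker_toSm A 𝔞 m).1 hm)
    (fun q => by
      obtain ⟨y, rfl⟩ := Submodule.Quotient.mk_surjective _ q
      obtain ⟨k, hk⟩ := H24Formal2.exists_pow_smul_mem A 𝔞 y
      exact ⟨k, fun r hr => (Submodule.Quotient.mk_eq_zero _).2 (hk r hr)⟩) (LinearMap.id : M →ₗ[A] M)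
  refine Module.Finite.of_injective ψ ((injective_iff_map_eq_zero ψ).2 fun z hz => ?_)
  obtain ⟨k, hk⟩ := H24Formal2.exists_pow_smul_mem A 𝔞 z
  refine H24Formal2.eq_zero_of_pow_smul_eq_zero A 𝔞 z (k := k) fun r hr => ?_
  obtain ⟨m, hm⟩ := hk r hr
  rw [← hm, H24Formal2.ker_toSm, ← H4LC.ker_toDT 𝔞 M, LinearMap.mem_ker]
  have h := LinearMap.congr_fun hψ m
  simp only [LinearMap.comp_apply, LinearMap.id_apply] at h
  rw [← h, hm, map_smul, hz, smul_zero]

/-- A uniform power into the image of the module. -/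
theorem exists_uniform_pow [Module.Finite A (H24Formal2.Sm A M (LocCoh.puncturedOpen A 𝔞))] :
    ∃ k : ℕ, ∀ z : H24Formal2.Sm A M (LocCoh.puncturedOpen A 𝔞), ∀ a ∈ 𝔞 ^ k,
      a • z ∈ LinearMap.range (H24Formal2.toSm A M (LocCoh.puncturedOpen A 𝔞)) := by
  obtain ⟨r, g, hg⟩ := Submodule.fg_iff_exists_fin_generating_family.1
    (Module.Finite.fg_top (R := A) (M := H24Formal2.Sm A M (LocCoh.puncturedOpen A 𝔞)))
  choose k hk using fun j => H24Formal2.exists_pow_smul_mem A 𝔞 (g j)
  refine ⟨Finset.univ.sup k, fun z a ha => ?_⟩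
  have hz : z ∈ Submodule.span A (Set.range g) := hg ▸ Submodule.mem_top
  induction hz using Submodule.span_induction with
  | mem x hx =>
    obtain ⟨j, rfl⟩ := hx
    exact hk j a (Ideal.pow_le_pow_right (Finset.le_sup (Finset.mem_univ j)) ha)
  | zero => rw [smul_zero]; exact zero_mem _
  | add x y _ _ hx hy => rw [smul_add]; exact add_mem hx hy
  | smul c x _ hx => rw [smul_comm]; exact Submodule.smul_mem _ c hx

/-- A multiplier moving a finite module into `I • ⊤` keeps it away from the support on `V(I)`. -/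
theorem not_annihilator_le {C : Type u} [AddCommGroup C] [Module A C] [Module.Finite A C] (I : Ideal A)
    (p : PrimeSpectrum A) (hpI : I ≤ p.asIdeal) {c : A} (hc : c ∉ p.asIdeal)
    (h : ∀ z : C, c • z ∈ (I • ⊤ : Submodule A C)) : ¬ Module.annihilator A C ≤ p.asIdeal := fun hle => by
  obtain ⟨q, hmon, -, hcoeff, hq⟩ :=
    LinearMap.exists_monic_and_natDegree_eq_and_coeff_mem_pow_and_aeval_eq_zero A (algebraMap A (Module.End A C) c) I
      (by rintro _ ⟨z, rfl⟩; exact h z)
  have hmem : q.eval c ∈ p.asIdeal := hle (Module.mem_annihilator.2 fun z => by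
    have h' := LinearMap.congr_fun hq z
    rwa [Polynomial.aeval_algebraMap_apply_eq_algebraMap_eval] at h')
  have hsum := Polynomial.eval_eq_sum_range (p := q) c
  rw [Finset.sum_range_succ, hmon.coeff_natDegree, one_mul] at hsum
  rw [hsum] at hmem
  refine hc (p.2.mem_of_pow_mem q.natDegree ((Submodule.add_mem_iff_right _ (Ideal.sum_mem _ fun i hi => ?_)).1 hmem))
  exact Ideal.mul_mem_right _ _ (hpI (Ideal.pow_le_self (by have := Finset.mem_range.1 hi; omega) (hcoeff i)))

set_option maxHeartbeats 1600000 in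
/-- Surjectivity along a principal ideal. -/
theorem surj_principal (f : A) (hf : f ∈ 𝔞) [IsAdicComplete (Ideal.span {f}) A] [Module.Finite A M]
    (hreg : IsSMulRegular M f)
    (hfin : Module.Finite A (LocCoh.H 𝔞 1 (M ⧸ (Ideal.span {f} • (⊤ : Submodule A M))))) :
    Surj A (Ideal.span {f}) 𝔞 M := by
  classical
  set I : Ideal A := Ideal.span {f} with hI
  let U : (Sp).Opens := LocCoh.puncturedOpen A 𝔞
  have hp : (I ^ (0 + 1) • (⊤ : Submodule A M)) = I • (⊤ : Submodule A M) := by rw [zero_add, pow_one]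
  haveI hfin0 : Module.Finite A (LocCoh.H 𝔞 1 (Formal2.quotPow A I M 0)) := by
    show Module.Finite A (LocCoh.H 𝔞 1 (M ⧸ (I ^ (0 + 1) • (⊤ : Submodule A M))))
    rw [hp]; exact hfin
  haveI : Module.Finite A (H24Formal2.Sm A (Formal2.quotPow A I M 0) U) := finite_Sm A 𝔞
  have hmem : ∀ n (x : M), x ∈ (I ^ n • ⊤ : Submodule A M) ↔ ∃ m, f ^ n • m = x := fun n x => by
    rw [hI, Ideal.span_singleton_pow, Submodule.ideal_span_singleton_smul, Submodule.mem_smul_pointwise_iff_exists]
    exact ⟨fun ⟨m, _, hm⟩ => ⟨m, hm⟩, fun ⟨m, hm⟩ => ⟨m, trivial, hm⟩⟩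
  -- multiplication by `f`
  let α : ∀ n, Formal2.quotPow A I M n →ₗ[A] Formal2.quotPow A I M (n + 1) := fun n => Submodule.mapQ _ _ (f • LinearMap.id) (fun x hx => by
    obtain ⟨m, rfl⟩ := (hmem _ x).1 hx
    exact (hmem _ _).2 ⟨m, by rw [pow_succ', mul_smul]; rfl⟩)
  have α_mk : ∀ n (x : M), α n (Submodule.Quotient.mk x) = Submodule.Quotient.mk (f • x) := fun n x => rfl
  have hα : ∀ n, Function.Injective (α n) := fun n => (injective_iff_map_eq_zero _).2 fun z hz => by
    obtain ⟨x, rfl⟩ := Submodule.Quotient.mk_surjective _ z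
    rw [α_mk, Submodule.Quotient.mk_eq_zero] at hz
    obtain ⟨m, hm⟩ := (hmem _ _).1 hz
    rw [pow_succ', mul_smul] at hm
    exact (Submodule.Quotient.mk_eq_zero _).2 ((hmem _ _).2 ⟨m, hreg hm⟩)
  have hπs : ∀ n, Function.Surjective (qle A I M (Nat.zero_le n)) := fun n z => by
    obtain ⟨x, rfl⟩ := Submodule.Quotient.mk_surjective _ z
    exact ⟨_, qle_mk A I M _ x⟩
  have hex : ∀ n, LinearMap.range (α n) = LinearMap.ker (qle A I M (Nat.zero_le (n + 1))) := fun n => by
    refine le_antisymm ?_ fun z hz => ?_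
    · rintro _ ⟨z, rfl⟩
      obtain ⟨x, rfl⟩ := Submodule.Quotient.mk_surjective _ z
      rw [LinearMap.mem_ker, α_mk, qle_mk, Submodule.Quotient.mk_eq_zero]
      exact (hmem _ _).2 ⟨x, by rw [zero_add, pow_one]⟩
    · obtain ⟨x, rfl⟩ := Submodule.Quotient.mk_surjective _ z
      rw [LinearMap.mem_ker, qle_mk, Submodule.Quotient.mk_eq_zero] at hz
      obtain ⟨m, hm⟩ := (hmem _ _).1 hz
      exact ⟨Submodule.Quotient.mk m, by rw [α_mk, ← hm, zero_add, pow_one]⟩
  have htα : ∀ n, Formal2.quotPowTrans A I M (n + 1) ∘ₗ α (n + 1) = α n ∘ₗ Formal2.quotPowTrans A I M n := fun n =>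
    Submodule.linearMap_qext _ (LinearMap.ext fun x => by
      show Formal2.quotPowTrans A I M (n + 1) (α (n + 1) (Submodule.Quotient.mk x)) =
        α n (Formal2.quotPowTrans A I M n (Submodule.Quotient.mk x))
      rw [α_mk, quotPowTrans_mk, quotPowTrans_mk, α_mk])
  have hfα : ∀ n, Formal2.quotPowTrans A I M n ∘ₗ α n = f • LinearMap.id := fun n =>
    Submodule.linearMap_qext _ (LinearMap.ext fun x => by
      show Formal2.quotPowTrans A I M n (α n (Submodule.Quotient.mk x)) = f • Submodule.Quotient.mk x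
      rw [α_mk, quotPowTrans_mk, Submodule.Quotient.mk_smul])
  have hdiv : ∀ y : ∀ n, Formal2.HV A (Formal2.quotPow A I M n) 0 U,
      (∀ n, Formal2.HVmap A (Formal2.quotPowTrans A I M n) 0 _ (y (n + 1)) = y n) → y 0 = 0 →
      ∃ y' : ∀ n, Formal2.HV A (Formal2.quotPow A I M n) 0 U,
        (∀ n, Formal2.HVmap A (Formal2.quotPowTrans A I M n) 0 _ (y' (n + 1)) = y' n) ∧
        ∀ n, Formal2.HVmap A (f • LinearMap.id) 0 _ (y' n) = y n := fun y hy hy0 => by
    choose y' hy' using fun n => H24Formal2.exists_HVmap_eq A (α n) _ (hα n) (hπs (n + 1)) (hex n) U (y (n + 1))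
      (by rw [compat A I U y hy, hy0])
    refine ⟨y', fun n => H24Formal2.HVmap_injective A (α n) (hα n) U ?_, fun n => ?_⟩
    · rw [H24Formal2.HVmap_comp, ← htα, ← H24Formal2.HVmap_comp, hy', hy, hy']
    · rw [← hfα, ← H24Formal2.HVmap_comp, hy', hy]
  -- formal sections
  let D : ∀ n, (∀ n, H24Formal2.Sm A (Formal2.quotPow A I M n) U) →ₗ[A] H24Formal2.Sm A (Formal2.quotPow A I M n) U := fun n =>
    H24Formal2.SmMap A (Formal2.quotPowTrans A I M n) U ∘ₗ
      LinearMap.proj (φ := fun n => ↑(H24Formal2.Sm A (Formal2.quotPow A I M n) U)) (n + 1) -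
      LinearMap.proj (φ := fun n => ↑(H24Formal2.Sm A (Formal2.quotPow A I M n) U)) n
  let G : Submodule A (∀ n, H24Formal2.Sm A (Formal2.quotPow A I M n) U) := ⨅ n, LinearMap.ker (D n)
  have hG : ∀ v, v ∈ G ↔ ∀ n, H24Formal2.SmMap A (Formal2.quotPowTrans A I M n) U (v (n + 1)) = v n := fun v => by
    simp only [G, D, Submodule.mem_iInf, LinearMap.mem_ker, LinearMap.sub_apply, LinearMap.comp_apply,
      LinearMap.proj_apply, sub_eq_zero]
  let e : M →ₗ[A] ↥G := (LinearMap.pi fun n => H24Formal2.toSm A (Formal2.quotPow A I M n) U ∘ₗ Formal2.quotPowπ A I M n).codRestrict G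
    fun m => (hG _).2 fun n => (H24Formal2.SmMap_toSm A _ U _).trans
      (congrArg (H24Formal2.toSm A (Formal2.quotPow A I M n) U) (quotPowTrans_mk A I M n m))
  let Φ : ↥G →ₗ[A] H24Formal2.Sm A (Formal2.quotPow A I M 0) U := LinearMap.proj 0 ∘ₗ G.subtype
  have hker : ∀ v : ↥G, Φ v = 0 → v ∈ (I • ⊤ : Submodule A ↥G) := fun v hv => by
    obtain ⟨y', hy', hfy⟩ := hdiv (fun n => (σ A _ U).symm (v.1 n))
      (fun n => (σ A _ U).injective (by rw [σ_map, AddEquiv.apply_symm_apply, AddEquiv.apply_symm_apply, (hG _).1 v.2]))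
      ((congrArg (σ A _ U).symm hv).trans (map_zero _))
    let w : ↥G := ⟨fun n => σ A _ U (y' n), (hG _).2 fun n => by rw [← σ_map, hy']⟩
    rw [show v = f • w from Subtype.ext (funext fun n => by
      show v.1 n = f • σ A _ U (y' n)
      rw [← H24Formal2.SmMap_smul_id A 𝔞, ← σ_map, hfy, AddEquiv.apply_symm_apply])]
    exact Submodule.smul_mem_smul (Ideal.mem_span_singleton_self f) Submodule.mem_top
  obtain ⟨r, t, ht⟩ := Submodule.fg_iff_exists_fin_generating_family.1 (IsNoetherian.noetherian (LinearMap.range Φ))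
  choose g hg using fun j => LinearMap.mem_range.1 (ht.le (Submodule.subset_span (Set.mem_range_self j)))
  let h : (Fin r → A) →ₗ[A] ↥G := Fintype.linearCombination A g
  haveI : IsPrecomplete I (Fin r → A) := H24Adic.isPrecomplete_of_finite I
  haveI : IsHausdorff I ↥G := ⟨fun v hv => Subtype.ext (funext fun n => by
    have hle : (I ^ (n + 1) • ⊤ : Submodule A ↥G) ≤ LinearMap.ker (LinearMap.proj n ∘ₗ G.subtype) :=
      Submodule.smul_le.2 fun a ha w _ => by
        show (a • w).1 n = 0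
        show a • w.1 n = 0
        rw [← H24Formal2.SmMap_smul_id A 𝔞, show (a • LinearMap.id : Formal2.quotPow A I M n →ₗ[A] Formal2.quotPow A I M n) = 0 from LinearMap.ext fun z => by
          obtain ⟨x, rfl⟩ := Submodule.Quotient.mk_surjective _ z
          exact (Submodule.Quotient.mk_eq_zero _).2 (Submodule.smul_mem_smul ha Submodule.mem_top)]
        obtain ⟨z, hz⟩ := (σ A _ U).surjective (w.1 n)
        rw [← hz, ← σ_map, H24Formal2.HVmap_zero, map_zero]
    exact hle (SModEq.zero.1 (hv (n + 1))))⟩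
  have hsurj : Function.Surjective h := surjective_of_mkQ_comp_surjective (I := I) fun z => by
    obtain ⟨v, rfl⟩ := Submodule.Quotient.mk_surjective _ z
    obtain ⟨c, hc⟩ := (Submodule.mem_span_range_iff_exists_fun A).1 (ht.ge (LinearMap.mem_range_self Φ v))
    refine ⟨c, (Submodule.Quotient.eq _).2 (hker _ ?_)⟩
    rw [map_sub, sub_eq_zero, ← hc]
    simp only [h, Fintype.linearCombination_apply, map_sum, map_smul, hg]
  haveI : Module.Finite A ↥G := Module.Finite.of_surjective h hsurj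
  obtain ⟨k, hk⟩ := exists_uniform_pow A 𝔞 (M := Formal2.quotPow A I M 0)
  haveI : Module.Finite A (↥G ⧸ LinearMap.range e) := Module.Finite.quotient A _
  let L : Ideal A := Module.annihilator A (↥G ⧸ LinearMap.range e)
  have hL : ∀ p : PrimeSpectrum A, ¬ 𝔞 ≤ p.asIdeal → I ≤ p.asIdeal → ¬ L ≤ p.asIdeal := by
    intro p hpa hpI hLp
    obtain ⟨b, hb, hbp⟩ := SetLike.not_le_iff_exists.1 hpa
    refine not_annihilator_le A I p hpI (fun h => hbp (p.2.mem_of_pow_mem k h)) (fun z => ?_) hLp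
    obtain ⟨v, rfl⟩ := Submodule.Quotient.mk_surjective _ z
    obtain ⟨x, hx⟩ := hk (Φ v) (b ^ k) (Ideal.pow_mem_pow hb k)
    obtain ⟨m, rfl⟩ := Submodule.Quotient.mk_surjective _ x
    have h0 := hker (b ^ k • v - e m) (by rw [map_sub, map_smul, sub_eq_zero, ← hx]; rfl)
    have h1 := Submodule.mem_map_of_mem (f := (LinearMap.range e).mkQ) h0
    rw [Submodule.map_smul'', Submodule.map_top, Submodule.range_mkQ, map_sub, map_smul, Submodule.mkQ_apply,
      Submodule.mkQ_apply, (Submodule.Quotient.mk_eq_zero _).2 (LinearMap.mem_range_self e m), sub_zero] at h1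
    exact h1
  intro y hy
  obtain ⟨s, rr, hrr⟩ := Submodule.fg_iff_exists_fin_generating_family.1 (IsNoetherian.noetherian L)
  refine algebraic_of_multiples A I 𝔞 y rr (LocCoh.puncturedOpen A 𝔞 ⊓ LocCoh.puncturedOpen A L)
    ⟨inf_le_left, fun p hp hpI => ⟨hp, hL p hp hpI⟩⟩ ?_ fun i => ?_
  · rw [show Ideal.span (Set.range rr) = L from hrr]
    exact inf_le_right
  have hv : (fun n => σ A _ U (y n)) ∈ G := (hG _).2 fun n => by rw [← σ_map, hy]
  obtain ⟨m, hm⟩ := (Submodule.Quotient.mk_eq_zero (p := LinearMap.range e) (x := rr i • (⟨_, hv⟩ : ↥G))).1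
    ((Submodule.Quotient.mk_smul _ _ _).trans
      (Module.mem_annihilator.1 (show rr i ∈ L from hrr ▸ Ideal.subset_span (Set.mem_range_self i)) _))
  refine ⟨U, ⟨le_rfl, fun p hp _ => hp⟩, H24Formal2.toSm A M U m, fun n => ?_⟩
  rw [H24Formal2.SmMap_toSm, show H24Formal2.toSm A (Formal2.quotPow A I M n) U (Formal2.quotPowπ A I M n m) = (e m).1 n from rfl, hm]
  show rr i • σ A _ U (y n) = _
  refine congrArg (rr i • ·) ?_
  show _ = ((modulesSpecToSheaf.obj (tilde (R := CommRingCat.of A) (ModuleCat.of A (Formal2.quotPow A I M n)))).presheaf.map (𝟙 _)).hom _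
  rw [CategoryTheory.Functor.map_id]
  rfl

end Groth.Agent.H3CAlg.Sect0
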